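import Groth.Agent.FinDomLib.Main

/-!
# fppf covers are dominated by finite surjective morphisms
-/

set_option autoImplicit false
set_option backward.isDefEq.respectTransparency false
set_option linter.style.haveILetI false

open AlgebraicGeometry CategoryTheory Limits Topology

universe u

namespace Groth.Agent.FinDomLib

theorem exists_finite_fp_dominating {U S : Scheme.{u}} (g : U ⟶ S) [Flat g] [LocallyOfFinitePresentation g]
    [Surjective g] [CompactSpace S] [QuasiSeparatedSpace S] :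
    ∃ (S' : Scheme.{u}) (π : S' ⟶ S), Surjective π ∧ IsFinite π ∧ LocallyOfFinitePresentation π ∧
      ∀ y : S', ∃ (V : S'.Opens) (h : V.toScheme ⟶ U), y ∈ V ∧ h ≫ g = V.ι ≫ π := by
  refine exists_finite_fp_of_local g fun s => ?_
  obtain ⟨V, W, π, hsV, hV, hW, ⟨h1, h2, h3⟩, hπs, hloc⟩ := FppfRefineLib.exists_refinement g s (g.surjective s)
  haveI := hW
  haveI := h1
  haveI := h3
  haveI := hπs
  have hloc' : ∀ w : W, ∃ (V₁ : W.Opens) (T : Scheme.{u}) (p : T ⟶ V₁.toScheme), w ∈ V₁ ∧ IsAffineOpen V₁ ∧ IsFinite p ∧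
      LocallyOfFinitePresentation p ∧ Surjective p ∧ ∀ t : T, ∃ (O : T.Opens) (k : O.toScheme ⟶ pullback g (π ≫ V.ι)),
        t ∈ O ∧ k ≫ pullback.snd g (π ≫ V.ι) = O.ι ≫ p ≫ V₁.ι := by
    intro w
    obtain ⟨W', T, ρ, r, hw, ⟨hρ1, hρ2, hρ3⟩, hρs, hr⟩ := hloc w
    haveI := hρ1
    haveI := hρ3
    haveI := hρs
    obtain ⟨V', hV', hwV', hV'W⟩ := exists_isAffineOpen_mem_and_subset (x := w) (U := W') hw
    let V'' := W'.ι ⁻¹ᵁ V'
    have him : W'.ι ''ᵁ V'' = V' := TopologicalSpace.Opens.ext (by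
      show W'.ι '' (W'.ι ⁻¹' (V' : Set W)) = V'
      rw [Set.image_preimage_eq_inter_range, Scheme.Opens.range_ι]
      exact Set.inter_eq_left.2 hV'W)
    let e : V''.toScheme ≅ V'.toScheme := W'.ι.isoImage V'' ≪≫ W.isoOfEq him
    have he : e.hom ≫ V'.ι = V''.ι ≫ W'.ι := by simp [e]
    haveI : Surjective (ρ ∣_ V'') := IsZariskiLocalAtTarget.restrict hρs V''
    refine ⟨V', (ρ ⁻¹ᵁ V'').toScheme, (ρ ∣_ V'') ≫ e.hom, hwV', hV', inferInstance, inferInstance, inferInstance,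
      fun t => ?_⟩
    refine ⟨⊤, Scheme.Opens.ι _ ≫ pullback.lift ((ρ ⁻¹ᵁ V'').ι ≫ r) ((ρ ⁻¹ᵁ V'').ι ≫ ρ ≫ W'.ι)
      (by simp only [Category.assoc, hr]), trivial, ?_⟩
    rw [Category.assoc, pullback.lift_snd, Category.assoc, he, morphismRestrict_ι_assoc]
  obtain ⟨Y, q, hq1, hq2, hq3, hq⟩ := exists_finite_fp_of_local (pullback.snd g (π ≫ V.ι)) hloc'
  haveI := hq1
  haveI := hq2
  haveI := hq3
  refine ⟨V, Y, q ≫ π, hsV, hV, inferInstance, inferInstance, inferInstance, fun t => ?_⟩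
  obtain ⟨O, k, ht, hk⟩ := hq t
  refine ⟨O, k ≫ pullback.fst g (π ≫ V.ι), ht, ?_⟩
  rw [Category.assoc, pullback.condition, ← Category.assoc, hk]
  simp only [Category.assoc]

end Groth.Agent.FinDomLib
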