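import Groth.Agent.FppfRefineLib.Basic
import Groth.Agent.S0385
import Groth.Agent.S7381

/-!
# Finite surjective morphisms of finite presentation dominating covers
-/

set_option autoImplicit false
set_option backward.isDefEq.respectTransparency false
set_option linter.style.haveILetI false
set_option maxHeartbeats 1000000

open AlgebraicGeometry CategoryTheory Limits Topology

universe u

namespace Groth.Agent.FinDomLib

variable {X : Scheme.{u}} [CompactSpace X] [QuasiSeparatedSpace X]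

/-- A finite surjective cover of an affine open extends to a finite surjective cover. -/
theorem exists_extend (V : X.Opens) (hV : IsAffineOpen V) {T : Scheme.{u}} (p : T ⟶ V.toScheme) [IsFinite p]
    [Surjective p] :
    ∃ (Z : Scheme.{u}) (ζ : Z ⟶ X), IsFinite ζ ∧ Surjective ζ ∧
      ∃ r : (ζ ⁻¹ᵁ V).toScheme ⟶ T, r ≫ p = ζ ∣_ V := by
  haveI : IsAffine V.toScheme := hV
  haveI : IsAffine T := isAffine_of_isAffineHom p
  haveI : QuasiCompact (p ≫ V.ι) := quasiCompact_of_compactSpace _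
  obtain ⟨Tb, j, πb, hj, -, hπb, hfac⟩ := Groth.Agent.S0385.result (p ≫ V.ι)
  haveI := hj
  haveI := hπb
  let C := Scheme.IdealSheafData.vanishingIdeal
    (⟨closure (Set.range j), isClosed_closure⟩ : TopologicalSpace.Closeds Tb)
  let K := Scheme.IdealSheafData.vanishingIdeal
    (⟨(V : Set X)ᶜ, V.2.isClosed_compl⟩ : TopologicalSpace.Closeds X)
  have hC : Set.range C.subschemeι = closure (Set.range j) := by
    rw [Scheme.IdealSheafData.range_subschemeι, Scheme.IdealSheafData.coe_support_vanishingIdeal]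
    rfl
  have hK : Set.range K.subschemeι = (V : Set X)ᶜ := by
    rw [Scheme.IdealSheafData.range_subschemeι, Scheme.IdealSheafData.coe_support_vanishingIdeal]
    rfl
  let ζ : C.subscheme ⨿ K.subscheme ⟶ X := coprod.desc (C.subschemeι ≫ πb) K.subschemeι
  haveI : IsFinite ζ := inferInstanceAs (IsFinite (coprod.desc (C.subschemeι ≫ πb) K.subschemeι))
  have hjT : ∀ t : T, πb (j t) = V.ι (p t) := fun t => by
    rw [← Scheme.Hom.comp_apply, hfac, Scheme.Hom.comp_apply]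
  have hsurj : Surjective ζ := ⟨fun x => by
    by_cases hx : x ∈ V
    · obtain ⟨t, ht⟩ := p.surjective ⟨x, hx⟩
      obtain ⟨c, hc⟩ : j t ∈ Set.range C.subschemeι := by
        rw [hC]
        exact subset_closure ⟨t, rfl⟩
      refine ⟨(coprod.inl : C.subscheme ⟶ _) c, ?_⟩
      rw [← Scheme.Hom.comp_apply, coprod.inl_desc, Scheme.Hom.comp_apply, hc, hjT, ht]
      rfl
    · obtain ⟨k, hk⟩ : x ∈ Set.range K.subschemeι := by
        rw [hK]
        exact hx
      refine ⟨(coprod.inr : K.subscheme ⟶ _) k, ?_⟩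
      rw [← Scheme.Hom.comp_apply, coprod.inr_desc, hk]⟩
  refine ⟨_, ζ, inferInstance, hsurj, ?_⟩
  let W := ζ ⁻¹ᵁ V
  have hW : Set.range W.ι ⊆ Set.range (coprod.inl : C.subscheme ⟶ C.subscheme ⨿ K.subscheme) := by
    rw [Scheme.Opens.range_ι]
    intro z hz
    obtain ⟨k, hk⟩ | ⟨k, hk⟩ : z ∈ Set.range (coprod.inl : C.subscheme ⟶ C.subscheme ⨿ K.subscheme) ∨
        z ∈ Set.range (coprod.inr : K.subscheme ⟶ C.subscheme ⨿ K.subscheme) :=
      (Set.ext_iff.1 (isCompl_range_inl_inr C.subscheme K.subscheme).sup_eq_top z).2 trivial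
    · exact ⟨k, hk⟩
    · exfalso
      have h1 : K.subschemeι k ∈ (V : Set X)ᶜ := hK ▸ ⟨k, rfl⟩
      refine h1 ?_
      rw [← hk] at hz
      have : ((coprod.inr : K.subscheme ⟶ _) ≫ ζ) k ∈ V := hz
      rwa [show (coprod.inr : K.subscheme ⟶ _) ≫ ζ = K.subschemeι from coprod.inr_desc _ _] at this
  let w₁ := IsOpenImmersion.lift (coprod.inl : C.subscheme ⟶ C.subscheme ⨿ K.subscheme) W.ι hW
  have hw₁ : w₁ ≫ C.subschemeι ≫ πb = W.ι ≫ ζ := by
    rw [← show (coprod.inl : C.subscheme ⟶ _) ≫ ζ = C.subschemeι ≫ πb from coprod.inl_desc _ _,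
      IsOpenImmersion.lift_fac_assoc]
  let j' : T ⟶ (πb ⁻¹ᵁ V).toScheme := IsOpenImmersion.lift (πb ⁻¹ᵁ V).ι j (by
    rw [Scheme.Opens.range_ι]
    rintro _ ⟨t, rfl⟩
    show πb (j t) ∈ V
    rw [hjT]
    exact (p t).2)
  have hj' : j' ≫ (πb ∣_ V) = p := by
    rw [← cancel_mono V.ι, Category.assoc, morphismRestrict_ι, IsOpenImmersion.lift_fac_assoc, hfac]
  haveI : IsFinite (j' ≫ (πb ∣_ V)) := hj'.symm ▸ inferInstance
  haveI : IsFinite j' := IsFinite.of_comp j' (πb ∣_ V)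
  have hclosed : IsClosed (Set.range j') := j'.isClosedMap.isClosed_range
  have hr : Set.range (w₁ ≫ C.subschemeι) ⊆ Set.range j := by
    rintro _ ⟨w, rfl⟩
    set a := (w₁ ≫ C.subschemeι) w
    have haV : πb a ∈ V := by
      rw [← Scheme.Hom.comp_apply, Category.assoc, hw₁, Scheme.Hom.comp_apply]
      exact w.2
    have hacl : a ∈ closure (Set.range j) := by
      rw [← hC]
      exact ⟨w₁ w, rfl⟩
    have h1 : (⟨a, haV⟩ : (πb ⁻¹ᵁ V).toScheme) ∈ closure (Set.range j') := by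
      rw [(πb ⁻¹ᵁ V).ι.isOpenEmbedding.isInducing.closure_eq_preimage_closure_image, Set.mem_preimage,
        ← Set.range_comp, ← TopCat.coe_comp, ← Scheme.Hom.comp_base, IsOpenImmersion.lift_fac]
      exact hacl
    rw [hclosed.closure_eq] at h1
    obtain ⟨t, ht⟩ := h1
    refine ⟨t, ?_⟩
    have : (j' ≫ (πb ⁻¹ᵁ V).ι) t = a := by
      rw [Scheme.Hom.comp_apply, ht]
      rfl
    rwa [IsOpenImmersion.lift_fac] at this
  refine ⟨IsOpenImmersion.lift j (w₁ ≫ C.subschemeι) hr, ?_⟩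
  rw [← cancel_mono V.ι, Category.assoc, morphismRestrict_ι, ← hfac, IsOpenImmersion.lift_fac_assoc,
    Category.assoc, hw₁]

/-- Finitely many finite surjective covers of affine opens are dominated by one finite surjective cover. -/
theorem exists_extend_finset {ι : Type u} (V : ι → X.Opens) (hV : ∀ i, IsAffineOpen (V i))
    (T : ι → Scheme.{u}) (p : ∀ i, T i ⟶ (V i).toScheme) (hp : ∀ i, IsFinite (p i)) (hs : ∀ i, Surjective (p i))
    (s : Finset ι) :
    ∃ (Z : Scheme.{u}) (ζ : Z ⟶ X), IsFinite ζ ∧ Surjective ζ ∧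
      ∀ i ∈ s, ∃ r : (ζ ⁻¹ᵁ V i).toScheme ⟶ T i, r ≫ p i = ζ ∣_ V i := by
  classical
  induction s using Finset.induction_on with
  | empty => exact ⟨X, 𝟙 X, inferInstance, inferInstance, fun i hi => absurd hi (Finset.notMem_empty i)⟩
  | insert a s _ ih =>
    obtain ⟨Z, ζ, h1, h2, h3⟩ := ih
    haveI := hp a
    haveI := hs a
    obtain ⟨Z', ζ', h1', h2', r', hr'⟩ := exists_extend (V a) (hV a) (p a)
    haveI := h1
    haveI := h1'
    haveI := h2
    haveI := h2'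
    haveI : IsFinite (pullback.fst ζ ζ') := MorphismProperty.pullback_fst (P := @IsFinite) _ _ h1'
    haveI : Surjective (pullback.fst ζ ζ') := MorphismProperty.pullback_fst (P := @Surjective) _ _ h2'
    refine ⟨pullback ζ ζ', pullback.fst ζ ζ' ≫ ζ, inferInstance, inferInstance, fun i hi => ?_⟩
    have key : ∀ {Z₀ : Scheme.{u}} (ζ₀ : Z₀ ⟶ X) (m : pullback ζ ζ' ⟶ Z₀), pullback.fst ζ ζ' ≫ ζ = m ≫ ζ₀ →
        (∃ r : (ζ₀ ⁻¹ᵁ V i).toScheme ⟶ T i, r ≫ p i = ζ₀ ∣_ V i) →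
        ∃ r : ((pullback.fst ζ ζ' ≫ ζ) ⁻¹ᵁ V i).toScheme ⟶ T i,
          r ≫ p i = (pullback.fst ζ ζ' ≫ ζ) ∣_ V i := by
      intro Z₀ ζ₀ m hm h
      obtain ⟨r, hr⟩ := h
      rw [hm]
      refine ⟨(m ∣_ (ζ₀ ⁻¹ᵁ V i)) ≫ r, ?_⟩
      rw [Category.assoc, hr, morphismRestrict_comp]
    rcases Finset.mem_insert.1 hi with rfl | hi
    · exact key ζ' (pullback.snd ζ ζ') pullback.condition ⟨r', hr'⟩
    · exact key ζ (pullback.fst ζ ζ') rfl (h3 i hi)

attribute [local instance] CategoryTheory.isConnected_of_hasTerminal IsCofiltered.isConnected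

/-- The dominating cover can be taken of finite presentation. -/
theorem exists_extend_fp {ι : Type u} [Finite ι] (V : ι → X.Opens) (hV : ∀ i, IsAffineOpen (V i))
    (T : ι → Scheme.{u}) (p : ∀ i, T i ⟶ (V i).toScheme) (hp : ∀ i, IsFinite (p i))
    (hfp : ∀ i, LocallyOfFinitePresentation (p i)) (hs : ∀ i, Surjective (p i)) :
    ∃ (Y : Scheme.{u}) (ζ : Y ⟶ X), IsFinite ζ ∧ LocallyOfFinitePresentation ζ ∧ Surjective ζ ∧
      ∀ i, ∃ r : (ζ ⁻¹ᵁ V i).toScheme ⟶ T i,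
        r ≫ p i = ζ ∣_ V i := by
  classical
  haveI := Fintype.ofFinite ι
  obtain ⟨Z, ζ, hζ, hζs, hr⟩ := exists_extend_finset V hV T p hp hs Finset.univ
  haveI := hζ
  obtain ⟨I, _, _, _, D, c, hc, hfin, hcl, ⟨e⟩⟩ := Groth.Agent.S7381.result ζ
  let D' := D ⋙ Over.forget X
  let c' := (Over.forget X).mapCone c
  have hc' : IsLimit c' := isLimitOfPreserves (Over.forget X) hc
  haveI haff : ∀ {i j : Iᵒᵖ} (a : i ⟶ j), IsAffineHom (D'.map a) := fun a => by
    haveI := hcl _ _ a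
    show IsAffineHom (D.map a).left
    infer_instance
  obtain ⟨i₀⟩ : Nonempty Iᵒᵖ := inferInstance
  have key : ∀ i, ∃ (k : Iᵒᵖ) (r : ((D.obj k).hom ⁻¹ᵁ V i).toScheme ⟶ T i),
      r ≫ p i = (D.obj k).hom ∣_ V i := by
    intro i
    obtain ⟨ri, hri⟩ := hr i (Finset.mem_univ i)
    haveI := hp i
    haveI := hfp i
    haveI : IsAffine (V i).toScheme := hV i
    let O : (D'.obj i₀).Opens := (D.obj i₀).hom ⁻¹ᵁ V i
    let E := opensDiagram D' i₀ O
    have hE : ∀ k : Over i₀, D'.map k.hom ⁻¹ᵁ O = (D.obj k.left).hom ⁻¹ᵁ V i := fun k => by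
      show (D.map k.hom).left ⁻¹ᵁ ((D.obj i₀).hom ⁻¹ᵁ V i) = _
      rw [← Scheme.Hom.comp_preimage, Over.w]
    haveI : ∀ k, IsAffine (E.obj k) := fun k => by
      show IsAffineOpen (D'.map k.hom ⁻¹ᵁ O)
      rw [hE]
      haveI := (hfin k.left).1
      exact (hV i).preimage _
    let t : E ⟶ (Functor.const (Over i₀)).obj X :=
      { app := fun k => Scheme.Opens.ι (D'.map k.hom ⁻¹ᵁ O) ≫ (D.obj k.left).hom
        naturality := fun k l f => by
          show (D'.map f.left).resLE _ _ _ ≫ Scheme.Opens.ι _ ≫ (D.obj l.left).hom = _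
          rw [Scheme.Hom.resLE_comp_ι_assoc]
          show _ ≫ (D.map f.left).left ≫ (D.obj l.left).hom = _
          rw [Over.w]
          exact (Category.comp_id _).symm }
    have hpt : c'.π.app i₀ ⁻¹ᵁ O ≤ e.hom.left ⁻¹ᵁ (ζ ⁻¹ᵁ V i) := by
      rw [← Scheme.Hom.comp_preimage, ← Scheme.Hom.comp_preimage]
      exact le_of_eq (congrArg (fun q => q ⁻¹ᵁ V i) ((Over.w (c.π.app i₀)).trans (Over.w e.hom).symm))
    let a : (opensCone D' c' i₀ O).pt ⟶ T i := e.hom.left.resLE (ζ ⁻¹ᵁ V i) _ hpt ≫ ri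
    have ha : (opensCone D' c' i₀ O).π ≫ t = (Functor.const _).map (a ≫ p i ≫ (V i).ι) := by
      ext k
      show (c'.π.app k.left).resLE _ _ _ ≫ Scheme.Opens.ι _ ≫ (D.obj k.left).hom = _
      rw [Scheme.Hom.resLE_comp_ι_assoc]
      show _ = a ≫ p i ≫ (V i).ι
      rw [show a ≫ p i ≫ (V i).ι = e.hom.left.resLE (ζ ⁻¹ᵁ V i) _ hpt ≫ (ζ ⁻¹ᵁ V i).ι ≫ ζ by
        simp only [a, Category.assoc]
        rw [reassoc_of% hri, morphismRestrict_ι], Scheme.Hom.resLE_comp_ι_assoc]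
      exact congrArg (_ ≫ ·) ((Over.w (c.π.app k.left)).trans (Over.w e.hom).symm)
    haveI : LocallyOfFinitePresentation (p i ≫ (V i).ι) := inferInstance
    obtain ⟨k, gk, -, hgk⟩ := Scheme.exists_π_app_comp_eq_of_locallyOfFinitePresentation E t (p i ≫ (V i).ι)
      (opensCone D' c' i₀ O) (isLimitOpensCone D' c' hc' i₀ O) a ha
    refine ⟨k.left, (D'.obj k.left).homOfLE (hE k).ge ≫ gk, ?_⟩
    rw [← cancel_mono (V i).ι, morphismRestrict_ι, Category.assoc, Category.assoc, hgk]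
    show _ ≫ Scheme.Opens.ι _ ≫ (D.obj k.left).hom = _
    rw [Scheme.homOfLE_ι_assoc]
  choose k r hkr using key
  obtain ⟨m, hm⟩ := IsCofiltered.inf_objs_exists (Finset.univ.image k)
  let f : ∀ i, m ⟶ k i := fun i => (hm (Finset.mem_image_of_mem k (Finset.mem_univ i))).some
  refine ⟨(D.obj m).left, (D.obj m).hom, (hfin m).1, (hfin m).2, ?_, fun i => ?_⟩
  · haveI : Surjective (e.inv.left ≫ (c.π.app m).left ≫ (D.obj m).hom) := by
      rw [show (c.π.app m).left ≫ (D.obj m).hom = c.pt.hom from Over.w (c.π.app m),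
        show e.inv.left ≫ c.pt.hom = ζ from Over.w e.inv]
      exact hζs
    haveI : Surjective ((c.π.app m).left ≫ (D.obj m).hom) := Surjective.of_comp e.inv.left _
    exact Surjective.of_comp (c.π.app m).left _
  · refine ⟨(D.map (f i)).left.resLE _ _ (by rw [← Scheme.Hom.comp_preimage, Over.w]) ≫ r i, ?_⟩
    rw [Category.assoc, hkr, ← cancel_mono (V i).ι, Category.assoc, morphismRestrict_ι, morphismRestrict_ι,
      Scheme.Hom.resLE_comp_ι_assoc]
    exact congrArg (_ ≫ ·) (Over.w (D.map (f i)))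

/-- Covers of affine opens by finite locally sectioned morphisms glue to one finite cover of finite presentation. -/
theorem exists_finite_fp_of_local {U : Scheme.{u}} (g : U ⟶ X)
    (h : ∀ x : X, ∃ (V : X.Opens) (T : Scheme.{u}) (p : T ⟶ V.toScheme), x ∈ V ∧ IsAffineOpen V ∧ IsFinite p ∧
      LocallyOfFinitePresentation p ∧ Surjective p ∧
      ∀ t : T, ∃ (W : T.Opens) (k : W.toScheme ⟶ U), t ∈ W ∧ k ≫ g = W.ι ≫ p ≫ V.ι) :
    ∃ (Y : Scheme.{u}) (π : Y ⟶ X), Surjective π ∧ IsFinite π ∧ LocallyOfFinitePresentation π ∧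
      ∀ y : Y, ∃ (W : Y.Opens) (k : W.toScheme ⟶ U), y ∈ W ∧ k ≫ g = W.ι ≫ π := by
  choose V T p hxV hV hp hfp hs hloc using h
  obtain ⟨F, hF⟩ := isCompact_univ.elim_finite_subcover (fun x => (V x : Set X)) (fun x => (V x).2)
    (fun x _ => Set.mem_iUnion.2 ⟨x, hxV x⟩)
  obtain ⟨Y, ζ, h1, h2, h3, hr⟩ := exists_extend_fp (ι := F) (fun i => V i.1) (fun i => hV i.1) (fun i => T i.1)
    (fun i => p i.1) (fun i => hp i.1) (fun i => hfp i.1) (fun i => hs i.1)
  refine ⟨Y, ζ, h3, h1, h2, fun y => ?_⟩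
  obtain ⟨x, hx, hxy⟩ := Set.mem_iUnion₂.1 (hF (Set.mem_univ (ζ y)))
  obtain ⟨r, hr⟩ := hr ⟨x, hx⟩
  obtain ⟨W, k, htW, hk⟩ := hloc x (r ⟨y, hxy⟩)
  let W₁ : (ζ ⁻¹ᵁ V x).toScheme.Opens := r ⁻¹ᵁ W
  refine ⟨(ζ ⁻¹ᵁ V x).ι ''ᵁ W₁, ((ζ ⁻¹ᵁ V x).ι.isoImage W₁).inv ≫ (r ∣_ W) ≫ k, ⟨⟨y, hxy⟩, htW, rfl⟩, ?_⟩
  rw [Category.assoc, Category.assoc, hk, morphismRestrict_ι_assoc, reassoc_of% hr, morphismRestrict_ι,
    Scheme.Hom.isoImage_inv_ι_assoc]

end Groth.Agent.FinDomLib
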